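import Cfsg.Agent.Lib.Helper6.TCD.Fi22U1.SH
import Cfsg.Agent.Lib.Helper6.TCD.Fi22U1.SC
import Cfsg.Agent.Lib.Helper6.TCD.Fi22U1.NH
import Cfsg.Agent.Lib.Helper6.TCD.Fi22U1.NC
import Cfsg.Agent.Lib.Helper6.TCD.Fi22U1.WD
import Cfsg.Agent.Lib.Helper6.TCD.Fi22U1.WI
set_option autoImplicit false
namespace Cfsg.Agent.Lib.Helper6.TCD.Fi22U1
def n : Nat := 1544
def ncol : Nat := 8
def nrw : Nat := 96
def nw : Nat := 103
def tmax : Nat := 12611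
def INV : Nat := 1985229328
def N : Nat := 364
end Cfsg.Agent.Lib.Helper6.TCD.Fi22U1
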