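import Cfsg.Agent.Lib.Helper6.WP1
import Cfsg.Agent.Lib.Helper6.TCD.Fi22U1.All

set_option autoImplicit false
set_option maxRecDepth 100000

namespace Cfsg.Agent.Lib.Helper6.TCD.Fi22U1
open Cfsg.Agent.Lib.Helper6.TC

/-- the relators -/
def base : List (List ℕ) := [
  [0, 0],
  [1, 1],
  [2, 2],
  [3, 3],
  [4, 4],
  [5, 5],
  [6, 6],
  [7, 7],
  [0, 1, 0, 1, 0, 1],
  [0, 2, 0, 2],
  [0, 3, 0, 3],
  [0, 4, 0, 4],
  [0, 5, 0, 5],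
  [0, 6, 0, 6],
  [0, 7, 0, 7],
  [1, 2, 1, 2, 1, 2],
  [1, 3, 1, 3],
  [1, 4, 1, 4],
  [1, 5, 1, 5],
  [1, 6, 1, 6],
  [1, 7, 1, 7],
  [2, 3, 2, 3, 2, 3],
  [2, 4, 2, 4],
  [2, 5, 2, 5],
  [2, 6, 2, 6, 2, 6],
  [2, 7, 2, 7],
  [3, 4, 3, 4, 3, 4],
  [3, 5, 3, 5],
  [3, 6, 3, 6],
  [3, 7, 3, 7],
  [4, 5, 4, 5, 4, 5],
  [4, 6, 4, 6],
  [4, 7, 4, 7],
  [5, 6, 5, 6],
  [5, 7, 5, 7],
  [6, 7, 6, 7, 6, 7],
  [2, 1, 0, 2, 3, 4, 2, 6, 7, 2, 1, 0, 2, 3, 4, 2, 6, 7, 2, 1, 0, 2, 3, 4, 2, 6, 7, 2, 1, 0, 2, 3, 4, 2, 6, 7, 2, 1, 0, 2, 3, 4, 2, 6, 7, 2, 1, 0, 2, 3, 4, 2, 6, 7, 2, 1, 0, 2, 3, 4, 2, 6, 7, 2, 1, 0, 2, 3, 4, 2, 6, 7, 2, 1, 0, 2, 3, 4, 2, 6, 7, 2, 1, 0, 2, 3, 4, 2, 6, 7],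
  [0, 1, 2, 3, 4, 5, 6, 0, 1, 2, 3, 4, 5, 6, 0, 1, 2, 3, 4, 5, 6, 0, 1, 2, 3, 4, 5, 6, 0, 1, 2, 3, 4, 5, 6, 0, 1, 2, 3, 4, 5, 6, 0, 1, 2, 3, 4, 5, 6, 0, 1, 2, 3, 4, 5, 6, 0, 1, 2, 3, 4, 5, 6]]

/-- the generators of the subgroup -/
def subw : List (List ℕ) := [[0], [1], [2], [3], [4], [6], [7]]

theorem chkW : allB (chkWord WD WI base subw INV ncol nrw) nw = true := by
  decide +kernel

theorem hS : ∀ s < n * ncol, chkSlot SH SC NH NC WD n ncol nrw nw tmax INV s = true := by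
  intro s hs
  have hs' : s < 12352 := hs
  by_cases h0 : s < 8000
  · exact allR_spec chkS0 s (by omega) (by omega)
  by_cases h1 : s < 12352
  · exact allR_spec chkS1 s (by omega) (by omega)
  omega

theorem hN : ∀ ν < n, chkName SH NH NC WD n ncol nrw nw tmax ν = true := by
  intro ν hν
  have hν' : ν < 1544 := hν
  by_cases h0 : ν < 1544
  · exact allR_spec chkN0 ν (by omega) (by omega)
  omega

theorem hL : ∀ ν < n, chkLive SH NH n ncol tmax ν = true := by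
  intro ν hν
  have hν' : ν < 1544 := hν
  by_cases h0 : ν < 1544
  · exact allR_spec chkL0 ν (by omega) (by omega)
  omega

theorem hinv : ∀ c < 8, invc INV c = c := by
  intro c hc
  interval_cases c <;> rfl

theorem hsq : ∀ c < 8, [c, c] ∈ base := by decide +kernel

theorem hbl : ∀ b ∈ base, ∀ c ∈ b, c < 8 := by decide +kernel

/-- the index of the subgroup is at most `364` -/
theorem idx : (subH (wrels 8 base) (wset 8 subw)).index ≤ 364 ∧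
    (subH (wrels 8 base) (wset 8 subw)).index ≠ 0 := by
  have h := wp_index_le (k := 8) (base := base) (subw := subw) (SH := SH) (SC := SC) (NH := NH)
    (NC := NC) (WD := WD) (WI := WI) (n := n) (nrw := nrw) (nw := nw) (tmax := tmax) (INV := INV)
    (by decide) (by decide) hinv hsq hbl (fun j hj => allB_spec chkW j hj) hS hN hL
  have e : cntLive NH n tmax n = 364 := chkC
  rw [e] at h
  exact h

end Cfsg.Agent.Lib.Helper6.TCD.Fi22U1
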